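import Cfsg.Agent.H46.Bruhat

/-!
# Centralisers of regular torus elements in Chevalley groups
-/

set_option autoImplicit false

namespace Cfsg.Agent.H23.RegularTorus

open Cfsg.Lie Cfsg.Agent.H46

variable {D : ChevalleyDatum} (G : Good D) {F : Type*} [Field F]

theorem prod_zpow_sum {ι A : Type*} [CommGroup A] (a : A) (e : ι → ℤ) (s : Finset ι) :
    ∏ j ∈ s, a ^ e j = a ^ ∑ j ∈ s, e j := by
  classical
  induction s using Finset.induction_on with
  | empty => simp
  | insert x s hx ih => rw [Finset.prod_insert hx, Finset.sum_insert hx, zpow_add, ih]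

/-- A torus value is determined by the values at the fundamental roots. -/
theorem torusVal_eq_prod (z : Fin D.rank → Fˣ) (s : ℕ) :
    G.torusVal z s = ∏ j : Fin D.rank, G.torusVal z (D.simple j) ^ G.rc s j := by
  have h : ∀ j : Fin D.rank, G.torusVal z (D.simple j) ^ G.rc s j =
      ∏ k : Fin D.rank, z k ^ (G.rc s j * G.tab.cm k j) := fun j => by
    rw [Good.torusVal, ← Finset.prod_zpow]
    refine Finset.prod_congr rfl fun k _ => ?_
    rw [G.rc_simple j.2, G.cartForm_single, one_mul, ← zpow_mul, mul_comm]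
  rw [Finset.prod_congr rfl fun j _ => h j, Finset.prod_comm]
  exact Finset.prod_congr rfl fun k _ => (prod_zpow_sum (z k) _ _).symm

/-- Torus elements with equal values at the fundamental roots are equal. -/
theorem torus_ext {z w : Fin D.rank → Fˣ}
    (h : ∀ j : Fin D.rank, G.torusVal z (D.simple j) = G.torusVal w (D.simple j)) : G.torus z = G.torus w := by
  apply Units.ext
  rw [G.coe_torus, G.coe_torus]
  congr 1
  funext s
  rw [torusVal_eq_prod G z s, torusVal_eq_prod G w s, Finset.prod_congr rfl fun j _ => by rw [h j]]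

/-- Conjugation of an ordered product by a torus element. -/
theorem torus_conj_ordProd (z : Fin D.rank → Fˣ) (k : ℕ) (t : ℕ → F) :
    G.torus z * G.ordProd k t * (G.torus z)⁻¹ = G.ordProd k (fun r => (G.torusVal z r : F) * t r) := by
  unfold Good.ordProd
  change MulAut.conj (G.torus z) _ = _
  rw [map_list_prod, List.map_map]
  congr 1
  refine List.map_congr_left fun r hr => ?_
  rw [List.mem_range'_1] at hr
  exact G.torus_conj_xg z (show r < D.nroots by omega) (t r)

/-- A positive unipotent element fixed by a torus element without trivial root value is trivial. -/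
theorem eq_one_of_commute (z : Fin D.rank → Fˣ) (hz : ∀ r < D.nroots, G.torusVal z r ≠ 1) {u : GL D.Idx F}
    (hu : u ∈ D.posUnipotent F) (hc : G.torus z * u * (G.torus z)⁻¹ = u) : u = 1 := by
  rw [G.posUnipotent_eq] at hu
  obtain ⟨t, ⟨-, rfl⟩, -⟩ := G.posSub_normal_form G.posClosed_univ hu
  rw [torus_conj_ordProd] at hc
  have h0 : ∀ r, D.nroots / 2 ≤ r → r < D.nroots → t r = 0 := fun r h1 h2 => by
    have h := G.ordProd_injective _ le_rfl _ _ hc r h1 h2
    by_contra hne
    exact hz r h2 (Units.ext (mul_right_cancel₀ hne (h.trans (one_mul (t r)).symm)))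
  rw [G.ordProd_congr (t' := fun _ => 0) h0]
  exact List.prod_eq_one fun x hx => by
    obtain ⟨r, -, rfl⟩ := List.mem_map.1 hx
    exact G.xg_zero r

/-- The centralizer of a regular torus element consists of monomial elements preserving its root values. -/
theorem mem_monomial_of_commute (z : Fin D.rank → Fˣ) (hz : ∀ r < D.nroots, G.torusVal z r ≠ 1)
    {g : GL D.Idx F} (hg : g ∈ D.group F) (hc : g * G.torus z = G.torus z * g) :
    g ∈ D.monomialSubgroup F ∧ ∀ r : Fin D.nroots, G.torusVal z (G.perm g r) = G.torusVal z r := by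
  set h := G.torus z with hh
  have hD : h ∈ D.diagonalSubgroup F := G.mem_diagonal.2 ⟨z, rfl⟩
  have hB : h ∈ D.borelSubgroup F := Subgroup.mem_sup_right hD
  obtain ⟨n, hn, hcell⟩ := G.bruhat hg
  obtain ⟨b, hb, u, hu, rfl⟩ := G.bruhatCell_normal_form hn hcell
  obtain ⟨t, ⟨ht, hut⟩, -⟩ := G.posSub_normal_form (G.posClosed_invSet hn) hu
  have hu' : h⁻¹ * u * h ∈ G.posSub (G.invSet n) := by
    rw [hut, hh, ← map_inv]
    have := torus_conj_ordProd G z⁻¹ (D.nroots / 2) t
    rw [map_inv, inv_inv] at this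
    rw [map_inv, this]
    exact G.ordProd_half_mem fun r hr hrS => by rw [ht r (Or.inl hrS), mul_zero]
  obtain ⟨-, hue, hbe⟩ := G.bruhat_unique (b := b * (n * h * n⁻¹)) (b' := h * b) (n := n) (n' := n)
    (u := h⁻¹ * u * h) (u' := u) (mul_mem hb (Subgroup.mem_sup_right (G.diagonal_normalized hn hD)))
    (mul_mem hB hb) hn hn hu' hu (by
      rw [show b * (n * h * n⁻¹) * n * (h⁻¹ * u * h) = b * n * u * h by group, hc]
      simp only [mul_assoc])
  have hu1 : u = 1 := eq_one_of_commute G z hz (G.posSub_le_posUnipotent _ hu) (by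
    rw [← hh]
    conv_lhs => rw [← hue]
    group)
  have hbe' := hbe rfl
  obtain ⟨v, hv, k, hk, rfl⟩ := G.mem_borel.1 hb
  have hnk : k * (n * h * n⁻¹) = (n * h * n⁻¹) * k := G.diagonal_comm hk (G.diagonal_normalized hn hD)
  have e : v⁻¹ * (h * v * h⁻¹) = (n * h * n⁻¹) * h⁻¹ := by
    rw [mul_assoc v k, hnk] at hbe'
    calc v⁻¹ * (h * v * h⁻¹) = v⁻¹ * (h * (v * k)) * (h * k)⁻¹ := by group
      _ = v⁻¹ * (v * (n * h * n⁻¹ * k)) * (h * k)⁻¹ := by rw [← hbe']
      _ = (n * h * n⁻¹) * h⁻¹ := by group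
  have h1 : v⁻¹ * (h * v * h⁻¹) = 1 := by
    refine (Subgroup.eq_bot_iff_forall _).1 (G.posUnipotent_inf_diagonal (F := F)) _
      (Subgroup.mem_inf.2 ⟨?_, ?_⟩)
    · exact Subgroup.mul_mem _ (Subgroup.inv_mem _ hv)
        ((Subgroup.mem_normalizer_iff.1 (G.diagonal_le_normalizer_pos hD) v).1 hv)
    · rw [e]
      exact Subgroup.mul_mem _ (G.diagonal_normalized hn hD) (Subgroup.inv_mem _ hD)
  have hv1 : v = 1 := eq_one_of_commute G z hz hv (inv_mul_eq_one.1 h1).symm
  rw [h1] at e
  have hnh : n * h * n⁻¹ = h := mul_inv_eq_one.1 e.symm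
  have hk' : k ∈ D.monomialSubgroup F := Subgroup.mem_sup_left hk
  rw [hu1, hv1, one_mul, mul_one]
  refine ⟨mul_mem hk' hn, fun r => ?_⟩
  rw [G.perm_mul hk' hn, G.perm_diagonal hk, one_mul]
  obtain ⟨c, hc'⟩ := G.conj_xg_eq hn r
  have e1 : n * (h * G.xg r 1 * h⁻¹) * n⁻¹ = (n * h * n⁻¹) * (n * G.xg r 1 * n⁻¹) * (n * h * n⁻¹)⁻¹ := by group
  rw [hnh, hh, G.torus_conj_xg z r.2, hc', hc', G.torus_conj_xg z (G.perm n r).2] at e1
  have e2 := G.xg_injective (G.perm n r).2 e1
  rw [mul_one, mul_one, mul_comm] at e2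
  exact (Units.ext (mul_right_cancel₀ c.ne_zero e2)).symm

end Cfsg.Agent.H23.RegularTorus
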